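import Groth.Agent.HenIdemLib.Basic
import Mathlib

/-!
# Approximation of matrices over `Â[1/t]` by matrices over `A[1/t]`
-/

set_option autoImplicit false
set_option linter.style.haveILetI false

universe u

open scoped TensorProduct
open Matrix HenIdemLib

namespace AwayApproxLib

variable {A : Type u} [CommRing A] (t : A)

/-- `Â[1/t]`. -/
abbrev Cl : Type u := Localization.Away (tau t)

/-- The map `A[1/t] → Â[1/t]`. -/
noncomputable abbrev pi : Localization.Away t →+* Cl t := Localization.awayMap (algebraMap A (Ac t)) t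

/-- The image of `t` in `Â[1/t]`. -/
noncomputable abbrev u' : Cl t := algebraMap (Ac t) (Cl t) (tau t)

/-- `τ ^ d • M` is integral. -/
def Bd {m n : Type*} (d : ℕ) (M : Matrix m n (Cl t)) : Prop :=
  ∃ X : Matrix m n (Ac t), u' t ^ d • M = X.map (algebraMap (Ac t) (Cl t))

theorem bd_mono {m n : Type*} {d e : ℕ} (h : d ≤ e) {M : Matrix m n (Cl t)} (hM : Bd t d M) : Bd t e M := by
  obtain ⟨X, hX⟩ := hM
  obtain ⟨k, rfl⟩ := Nat.exists_eq_add_of_le h
  refine ⟨tau t ^ k • X, ?_⟩
  rw [pow_add, mul_comm, mul_smul, hX]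
  ext i j
  simp

theorem bd_mul {m n p : Type*} [Fintype n] {d e : ℕ} {M : Matrix m n (Cl t)} {N : Matrix n p (Cl t)}
    (hM : Bd t d M) (hN : Bd t e N) : Bd t (d + e) (M * N) := by
  obtain ⟨X, hX⟩ := hM
  obtain ⟨Y, hY⟩ := hN
  refine ⟨X * Y, ?_⟩
  rw [Matrix.map_mul, ← hX, ← hY, Matrix.smul_mul, Matrix.mul_smul, smul_smul, pow_add]

theorem bd_add {m n : Type*} {d : ℕ} {M N : Matrix m n (Cl t)} (hM : Bd t d M) (hN : Bd t d N) :
    Bd t d (M + N) := by
  obtain ⟨X, hX⟩ := hM
  obtain ⟨Y, hY⟩ := hN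
  exact ⟨X + Y, by rw [smul_add, hX, hY, Matrix.map_add _ (map_add _)]⟩

theorem bd_smul {m n : Type*} {d : ℕ} (k : ℕ) {M : Matrix m n (Cl t)} (hM : Bd t d M) :
    Bd t d (u' t ^ k • M) := by
  obtain ⟨Z, hZ⟩ := hM
  refine ⟨tau t ^ k • Z, ?_⟩
  rw [smul_comm, hZ]
  ext i j
  simp

theorem exists_bd {m n : Type*} [Finite m] [Finite n] (M : Matrix m n (Cl t)) : ∃ d, Bd t d M := by
  classical
  cases nonempty_fintype m
  cases nonempty_fintype n
  choose k a hk using fun q : m × n => IsLocalization.Away.surj (tau t) (M q.1 q.2)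
  refine ⟨∑ q, k q, Matrix.of fun i j => tau t ^ (∑ q, k q - k (i, j)) * a (i, j), ?_⟩
  ext i j
  have hle : k (i, j) ≤ ∑ q, k q := Finset.single_le_sum (fun q _ => Nat.zero_le (k q)) (Finset.mem_univ (i, j))
  show u' t ^ (∑ q, k q) * M i j = algebraMap (Ac t) (Cl t) (tau t ^ (∑ q, k q - k (i, j)) * a (i, j))
  have h1 : M i j * u' t ^ k (i, j) = algebraMap (Ac t) (Cl t) (a (i, j)) := hk (i, j)
  rw [map_mul, map_pow, ← h1, ← pow_sub_mul_pow (u' t) hle]
  ring

theorem pi_algebraMap (a : A) :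
    pi t (algebraMap A (Localization.Away t) a) = algebraMap (Ac t) (Cl t) (algebraMap A (Ac t) a) :=
  map_algebraMap_sub t a

/-- Matrices over `Â[1/t]` are limits of matrices over `A[1/t]`. -/
theorem exists_approx {m n : Type*} [Finite m] [Finite n] (M : Matrix m n (Cl t)) (k : ℕ) :
    ∃ (M₀ : Matrix m n (Localization.Away t)) (X : Matrix m n (Cl t)),
      M₀.map (pi t) = M + u' t ^ k • X ∧ Bd t 0 X := by
  classical
  obtain ⟨d, Y, hY⟩ := exists_bd t M
  have hap : ∀ i j, ∃ a : A, tau t ^ (d + k) ∣ Y i j - algebraMap A (Ac t) a := fun i j =>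
    HenIdemLib.exists_approx t (d + k) (Y i j)
  choose a w hw using hap
  have hu : IsUnit (algebraMap A (Localization.Away t) t) := IsLocalization.Away.algebraMap_isUnit t
  obtain ⟨v, hv⟩ := hu
  refine ⟨Matrix.of fun i j => algebraMap A (Localization.Away t) (a i j) * ↑(v⁻¹ ^ d),
    (Matrix.of fun i j => -w i j).map (algebraMap (Ac t) (Cl t)), ?_, ⟨Matrix.of fun i j => -w i j, ?_⟩⟩
  · ext i j
    have hud : IsUnit (u' t ^ d) := (IsLocalization.Away.algebraMap_isUnit (tau t)).pow d
    apply hud.mul_left_cancel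
    have e1 : u' t ^ d * pi t (↑(v⁻¹ ^ d)) = 1 := by
      rw [u', ← pi_algebraMap, ← map_pow, ← map_mul, ← hv, ← Units.val_pow_eq_pow_val, ← Units.val_mul, inv_pow,
        mul_inv_cancel, Units.val_one, map_one]
    have e2 : u' t ^ d * M i j = algebraMap (Ac t) (Cl t) (Y i j) := congrFun (congrFun hY i) j
    have e3 : algebraMap (Ac t) (Cl t) (Y i j) - algebraMap (Ac t) (Cl t) (algebraMap A (Ac t) (a i j)) =
        u' t ^ (d + k) * algebraMap (Ac t) (Cl t) (w i j) := by
      rw [← map_sub, hw i j, map_mul, map_pow]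
    simp only [Matrix.map_apply, Matrix.of_apply, Matrix.add_apply, Matrix.smul_apply, smul_eq_mul, map_mul,
      pi_algebraMap, map_neg]
    rw [mul_add, e2, ← mul_assoc, mul_comm (u' t ^ d), mul_assoc, e1, mul_one]
    linear_combination (-1 : Cl t) * e3
  · rw [pow_zero, one_smul]

/-- A square matrix congruent to one modulo `t` is invertible. -/
theorem isUnit_one_add (ht : t ∈ (⊥ : Ideal A).jacobson) {n : Type*} [Fintype n] [DecidableEq n]
    (X : Matrix n n (Localization.Away t)) (k : ℕ) {d : ℕ} (hdk : d < k)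
    (Y : Matrix n n (Cl t)) (hY : Bd t d Y) (hX : X.map (pi t) = 1 + u' t ^ k • Y) : IsUnit X := by
  classical
  obtain ⟨Z, hZ⟩ := hY
  obtain ⟨e, rfl⟩ := Nat.exists_eq_add_of_lt hdk
  have hkey : ∀ i j, ∃ b : A, X i j - (1 : Matrix n n (Localization.Away t)) i j =
      algebraMap A (Localization.Away t) (t * b) := by
    intro i j
    obtain ⟨l, a, ha⟩ := IsLocalization.Away.surj t (X i j - (1 : Matrix n n (Localization.Away t)) i j)
    have h1 : pi t (X i j - (1 : Matrix n n (Localization.Away t)) i j) =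
        algebraMap (Ac t) (Cl t) (tau t ^ (e + 1) * Z i j) := by
      have h2 := congrFun (congrFun hX i) j
      have h3 : u' t ^ d * Y i j = algebraMap (Ac t) (Cl t) (Z i j) := congrFun (congrFun hZ i) j
      rw [map_sub, map_mul, map_pow, ← h3, show pi t (X i j) = _ from h2, Matrix.add_apply, Matrix.smul_apply,
        smul_eq_mul, ← Matrix.map_apply (f := pi t), Matrix.map_one _ (map_zero _) (map_one _)]
      ring
    have h4 := congrArg (pi t) ha
    rw [map_mul, map_pow, pi_algebraMap, pi_algebraMap, h1, ← map_pow (algebraMap (Ac t) (Cl t)), ← map_mul] at h4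
    obtain ⟨⟨_, K, rfl⟩, hK⟩ := (IsLocalization.eq_iff_exists (Submonoid.powers (tau t)) (Cl t)).1 h4
    simp only at hK
    obtain ⟨b, hb⟩ := HenIdemLib.dvd_of_algebraMap_dvd t (K + l + 1) (t ^ K * a)
      ⟨tau t ^ e * Z i j, by rw [map_mul, map_pow, ← hK]; ring⟩
    refine ⟨b, (IsLocalization.Away.algebraMap_isUnit (S := Localization.Away t) t).pow (K + l) |>.mul_left_cancel ?_⟩
    rw [← map_pow, ← map_mul, show t ^ (K + l) * (t * b) = t ^ K * a by rw [hb]; ring, map_mul, ← ha, pow_add,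
      map_mul]
    simp only [map_pow]
    ring
  choose b hb using hkey
  have hXe : X = (1 + t • Matrix.of b).map (algebraMap A (Localization.Away t)) := by
    ext i j
    have h := hb i j
    rw [Matrix.map_apply, Matrix.add_apply, Matrix.smul_apply, Matrix.of_apply, smul_eq_mul, map_add,
      ← Matrix.map_apply (f := algebraMap A (Localization.Away t)), Matrix.map_one _ (map_zero _) (map_one _), ← h]
    ring
  rw [Matrix.isUnit_iff_isUnit_det, hXe, ← RingHom.mapMatrix_apply, ← RingHom.map_det]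
  refine IsUnit.map _ ?_
  have hmod : Ideal.Quotient.mk (Ideal.span {t}) (1 + t • Matrix.of b).det = 1 := by
    rw [RingHom.map_det, RingHom.mapMatrix_apply]
    have : (1 + t • Matrix.of b).map (Ideal.Quotient.mk (Ideal.span {t})) = 1 := by
      ext i j
      rw [Matrix.map_apply, Matrix.add_apply, map_add, Matrix.smul_apply, smul_eq_mul, map_mul,
        Ideal.Quotient.eq_zero_iff_mem.2 (Ideal.mem_span_singleton_self _), zero_mul, add_zero,
        ← Matrix.map_apply (f := Ideal.Quotient.mk (Ideal.span {t})), Matrix.map_one _ (map_zero _) (map_one _)]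
    rw [this, Matrix.det_one]
  rw [← map_one (Ideal.Quotient.mk (Ideal.span {t})), Ideal.Quotient.eq, Ideal.mem_span_singleton] at hmod
  obtain ⟨c, hc⟩ := hmod
  rw [show (1 + t • Matrix.of b).det = t * c + 1 by rw [← hc]; ring]
  exact Ideal.mem_jacobson_bot.1 ht c

/-- A square matrix over `Â` congruent to one modulo `t` is invertible. -/
theorem isUnit_one_add' {n : Type*} [Fintype n] [DecidableEq n] (k : ℕ) {d : ℕ} (hdk : d < k)
    (Y : Matrix n n (Cl t)) (hY : Bd t d Y) : IsUnit (1 + u' t ^ k • Y) := by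
  classical
  obtain ⟨Z, hZ⟩ := hY
  obtain ⟨e, rfl⟩ := Nat.exists_eq_add_of_lt hdk
  have hjac : tau t ∈ (⊥ : Ideal (Ac t)).jacobson := by
    haveI : IsAdicComplete ((J t).map (algebraMap A (Ac t))) (Ac t) :=
      (IsAdicComplete.map_algebraMap_iff _ _).mpr (AdicCompletion.isAdicComplete (Submodule.fg_span_singleton t))
    exact IsAdicComplete.le_jacobson_bot _ (Ideal.mem_map_of_mem _ (Ideal.mem_span_singleton_self t))
  have hXe : 1 + u' t ^ (d + e + 1) • Y = (1 + tau t • (tau t ^ e • Z)).map (algebraMap (Ac t) (Cl t)) := by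
    rw [Matrix.map_add _ (map_add _), Matrix.map_one _ (map_zero _) (map_one _)]
    congr 1
    ext i j
    have h3 : u' t ^ d * Y i j = algebraMap (Ac t) (Cl t) (Z i j) := congrFun (congrFun hZ i) j
    simp only [Matrix.map_apply, Matrix.smul_apply, smul_eq_mul, map_mul, map_pow, ← h3]
    ring
  rw [Matrix.isUnit_iff_isUnit_det, hXe, ← RingHom.mapMatrix_apply, ← RingHom.map_det]
  refine IsUnit.map _ ?_
  set B := tau t ^ e • Z
  have hmod : Ideal.Quotient.mk (Ideal.span {tau t}) (1 + tau t • B).det = 1 := by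
    rw [RingHom.map_det, RingHom.mapMatrix_apply]
    have : (1 + tau t • B).map (Ideal.Quotient.mk (Ideal.span {tau t})) = 1 := by
      ext i j
      rw [Matrix.map_apply, Matrix.add_apply, map_add, Matrix.smul_apply, smul_eq_mul, map_mul,
        Ideal.Quotient.eq_zero_iff_mem.2 (Ideal.mem_span_singleton_self _), zero_mul, add_zero,
        ← Matrix.map_apply (f := Ideal.Quotient.mk (Ideal.span {tau t})), Matrix.map_one _ (map_zero _) (map_one _)]
    rw [this, Matrix.det_one]
  rw [← map_one (Ideal.Quotient.mk (Ideal.span {tau t})), Ideal.Quotient.eq, Ideal.mem_span_singleton] at hmod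
  obtain ⟨c, hc⟩ := hmod
  rw [show (1 + tau t • B).det = tau t * c + 1 by rw [← hc]; ring]
  exact Ideal.mem_jacobson_bot.1 hjac c

/-- Approximate inverse pairs between summands of free modules are inverse up to units. -/
theorem exists_pair (ht : t ∈ (⊥ : Ideal A).jacobson) {m n : Type*} [Fintype m] [Fintype n] [DecidableEq m]
    [DecidableEq n] (E : Matrix m m (Localization.Away t)) (F : Matrix n n (Localization.Away t))
    (Φ : Matrix n m (Cl t)) (Ψ : Matrix m n (Cl t))
    (h1 : E.map (pi t) * Ψ * F.map (pi t) * Φ * E.map (pi t) = E.map (pi t))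
    (h2 : F.map (pi t) * Φ * E.map (pi t) * Ψ * F.map (pi t) = F.map (pi t)) :
    ∃ (Φ₀ : Matrix n m (Localization.Away t)) (Ψ₀ : Matrix m n (Localization.Away t)),
      IsUnit (E * Ψ₀ * F * Φ₀ * E + (1 - E)) ∧ IsUnit (F * Φ₀ * E * Ψ₀ * F + (1 - F)) := by
  classical
  obtain ⟨dE, hE⟩ := exists_bd t (E.map (pi t))
  obtain ⟨dF, hF⟩ := exists_bd t (F.map (pi t))
  obtain ⟨dΦ, hΦ⟩ := exists_bd t Φ
  obtain ⟨dΨ, hΨ⟩ := exists_bd t Ψ
  let D := dE + dF + dΦ + dΨ
  let k := 5 * D + 1
  obtain ⟨Φ₀, X, hX, hXb⟩ := exists_approx t Φ k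
  obtain ⟨Ψ₀, Y, hY, hYb⟩ := exists_approx t Ψ k
  replace hE := bd_mono t (show dE ≤ D by omega) hE
  replace hF := bd_mono t (show dF ≤ D by omega) hF
  replace hΦ := bd_mono t (show dΦ ≤ D by omega) hΦ
  replace hΨ := bd_mono t (show dΨ ≤ D by omega) hΨ
  replace hXb := bd_mono t (Nat.zero_le D) hXb
  replace hYb := bd_mono t (Nat.zero_le D) hYb
  refine ⟨Φ₀, Ψ₀, ?_, ?_⟩
  · refine isUnit_one_add t ht _ k (show D + D + D + D + D < k by omega)
      (E.map (pi t) * Ψ * F.map (pi t) * X * E.map (pi t) + E.map (pi t) * Y * F.map (pi t) * Φ * E.map (pi t) +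
        u' t ^ k • (E.map (pi t) * Y * F.map (pi t) * X * E.map (pi t))) ?_ ?_
    · exact bd_add t (bd_add t (bd_mul t (bd_mul t (bd_mul t (bd_mul t hE hΨ) hF) hXb) hE)
        (bd_mul t (bd_mul t (bd_mul t (bd_mul t hE hYb) hF) hΦ) hE))
        (bd_smul t k (bd_mul t (bd_mul t (bd_mul t (bd_mul t hE hYb) hF) hXb) hE))
    · rw [Matrix.map_add _ (map_add _), Matrix.map_sub _ (map_sub _), Matrix.map_one _ (map_zero _) (map_one _),
        Matrix.map_mul, Matrix.map_mul, Matrix.map_mul, Matrix.map_mul, hX, hY]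
      simp only [Matrix.mul_add, Matrix.add_mul, Matrix.smul_mul, Matrix.mul_smul, smul_add, h1]
      abel
  · refine isUnit_one_add t ht _ k (show D + D + D + D + D < k by omega)
      (F.map (pi t) * Φ * E.map (pi t) * Y * F.map (pi t) + F.map (pi t) * X * E.map (pi t) * Ψ * F.map (pi t) +
        u' t ^ k • (F.map (pi t) * X * E.map (pi t) * Y * F.map (pi t))) ?_ ?_
    · exact bd_add t (bd_add t (bd_mul t (bd_mul t (bd_mul t (bd_mul t hF hΦ) hE) hYb) hF)
        (bd_mul t (bd_mul t (bd_mul t (bd_mul t hF hXb) hE) hΨ) hF))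
        (bd_smul t k (bd_mul t (bd_mul t (bd_mul t (bd_mul t hF hXb) hE) hYb) hF))
    · rw [Matrix.map_add _ (map_add _), Matrix.map_sub _ (map_sub _), Matrix.map_one _ (map_zero _) (map_one _),
        Matrix.map_mul, Matrix.map_mul, Matrix.map_mul, Matrix.map_mul, hX, hY]
      simp only [Matrix.mul_add, Matrix.add_mul, Matrix.smul_mul, Matrix.mul_smul, smul_add, h2]
      abel

/-- A split pair over `Â[1/t]` is approximated by one over `A[1/t]`. -/
theorem exists_split (ht : t ∈ (⊥ : Ideal A).jacobson) {m n : Type*} [Fintype m] [Fintype n] [DecidableEq m]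
    [DecidableEq n] (P : Matrix n m (Cl t)) (S : Matrix m n (Cl t)) (h : P * S = 1) :
    ∃ (P₀ : Matrix n m (Localization.Away t)) (S₀ : Matrix m n (Localization.Away t)),
      IsUnit (P₀ * S₀) ∧ IsUnit (P * S₀.map (pi t)) := by
  classical
  obtain ⟨dP, hP⟩ := exists_bd t P
  obtain ⟨dS, hS⟩ := exists_bd t S
  let D := dP + dS
  let k := 2 * D + 1
  obtain ⟨P₀, X, hX, hXb⟩ := exists_approx t P k
  obtain ⟨S₀, Y, hY, hYb⟩ := exists_approx t S k
  replace hP := bd_mono t (show dP ≤ D by omega) hP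
  replace hS := bd_mono t (show dS ≤ D by omega) hS
  replace hXb := bd_mono t (Nat.zero_le D) hXb
  replace hYb := bd_mono t (Nat.zero_le D) hYb
  refine ⟨P₀, S₀, ?_, ?_⟩
  · refine isUnit_one_add t ht _ k (show D + D < k by omega) (P * Y + X * S + u' t ^ k • (X * Y)) ?_ ?_
    · refine bd_add t (bd_add t (bd_mul t hP hYb) (bd_mul t hXb hS)) ?_
      exact bd_smul t k (bd_mul t hXb hYb)
    · rw [Matrix.map_mul, hX, hY]
      simp only [Matrix.mul_add, Matrix.add_mul, Matrix.smul_mul, Matrix.mul_smul, smul_add, h]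
      abel
  · rw [hY, Matrix.mul_add, Matrix.mul_smul, h]
    exact isUnit_one_add' t k (show D + D < k by omega) _ (bd_mul t hP hYb)

end AwayApproxLib
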