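import Groth.Agent.AwayApproxLib.Basic
import Groth.Agent.HenselLib.Perm

/-!
# Idempotent matrices over `Â[1/t]` descend to `A[1/t]` for a Henselian pair
-/

set_option autoImplicit false
set_option linter.style.haveILetI false

universe u

open scoped TensorProduct
open Matrix HenIdemLib

namespace AwayApproxLib

variable {A : Type u} [CommRing A] (t : A)

/-- Matrices over `A[1/t]` with small image come from multiples of powers of `t`. -/
theorem exists_eq_pow_smul {m n : Type*} (X : Matrix m n (Localization.Away t)) {k d j : ℕ} (hj : d + j ≤ k)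
    (Y : Matrix m n (Cl t)) (hY : Bd t d Y) (hX : X.map (pi t) = u' t ^ k • Y) :
    ∃ B : Matrix m n A, X = (t ^ j • B).map (algebraMap A (Localization.Away t)) := by
  obtain ⟨Z, hZ⟩ := hY
  obtain ⟨e, rfl⟩ := Nat.exists_eq_add_of_le hj
  have hkey : ∀ a b, ∃ c : A, X a b = algebraMap A (Localization.Away t) (t ^ j * c) := by
    intro a b
    obtain ⟨l, x, hx⟩ := IsLocalization.Away.surj t (X a b)
    have h1 : pi t (X a b) = algebraMap (Ac t) (Cl t) (tau t ^ (j + e) * Z a b) := by
      have h3 : u' t ^ d * Y a b = algebraMap (Ac t) (Cl t) (Z a b) := congrFun (congrFun hZ a) b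
      have h2 : pi t (X a b) = u' t ^ (d + j + e) * Y a b := congrFun (congrFun hX a) b
      rw [h2, map_mul, map_pow, ← h3]
      ring
    have h4 := congrArg (pi t) hx
    rw [map_mul, map_pow, pi_algebraMap, pi_algebraMap, h1, ← map_pow (algebraMap (Ac t) (Cl t)), ← map_mul] at h4
    obtain ⟨⟨_, K, rfl⟩, hK⟩ := (IsLocalization.eq_iff_exists (Submonoid.powers (tau t)) (Cl t)).1 h4
    simp only at hK
    obtain ⟨c, hc⟩ := HenIdemLib.dvd_of_algebraMap_dvd t (K + l + j) (t ^ K * x)
      ⟨tau t ^ e * Z a b, by rw [map_mul, map_pow, ← hK]; ring⟩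
    refine ⟨c, (IsLocalization.Away.algebraMap_isUnit (S := Localization.Away t) t).pow (K + l) |>.mul_left_cancel ?_⟩
    rw [← map_pow, ← map_mul, show t ^ (K + l) * (t ^ j * c) = t ^ K * x by rw [hc]; ring, map_mul, ← hx, pow_add,
      map_mul]
    simp only [map_pow]
    ring
  choose c hc using hkey
  exact ⟨Matrix.of c, Matrix.ext fun a b => hc a b⟩

set_option maxHeartbeats 1600000 in
/-- Idempotent matrices descend up to conjugation. -/
theorem exists_idempotent [HenselianRing A (J t)] {n : ℕ} (P : Matrix (Fin n) (Fin n) (Cl t)) (hP : P * P = P) :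
    ∃ (e : Matrix (Fin n) (Fin n) (Localization.Away t)) (U : Matrix (Fin n) (Fin n) (Cl t)),
      e * e = e ∧ IsUnit U ∧ U * P = e.map (pi t) * U := by
  classical
  obtain ⟨d, hd⟩ := exists_bd t P
  let j := 4 * d + 1
  let k := j + 2 * d
  obtain ⟨P₀, X, hX, hXb⟩ := exists_approx t P k
  replace hXb := bd_mono t (Nat.zero_le d) hXb
  have hjac : t ∈ (⊥ : Ideal A).jacobson := HenselianRing.jac (Ideal.mem_span_singleton_self t)
  have hneg : ∀ {M : Matrix (Fin n) (Fin n) (Cl t)} {r : ℕ}, Bd t r M → Bd t r (-M) := fun {M r} ⟨Z, hZ⟩ =>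
    ⟨-Z, by rw [smul_neg, hZ]; ext a b; simp⟩
  have hone : ∀ r : ℕ, Bd t r (1 : Matrix (Fin n) (Fin n) (Cl t)) := fun r =>
    bd_mono t (Nat.zero_le r) ⟨1, by rw [pow_zero, one_smul, Matrix.map_one _ (map_zero _) (map_one _)]⟩
  -- the defect
  let ε := P₀ * P₀ - P₀
  have hεπ : ε.map (pi t) = u' t ^ k • (P * X + X * P - X + u' t ^ k • (X * X)) := by
    rw [Matrix.map_sub _ (map_sub _), Matrix.map_mul, hX]
    simp only [Matrix.mul_add, Matrix.add_mul, Matrix.smul_mul, Matrix.mul_smul, smul_add, smul_sub, hP]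
    abel
  obtain ⟨ε₁, hε₁⟩ := exists_eq_pow_smul t ε (j := j) (show 2 * d + j ≤ k by omega)
    (P * X + X * P - X + u' t ^ k • (X * X))
    (bd_add t (bd_add t (bd_add t (bd_mono t (by omega) (bd_mul t hd hXb)) (bd_mono t (by omega) (bd_mul t hXb hd)))
      (hneg (bd_mono t (by omega) hXb))) (bd_smul t k (bd_mono t (by omega) (bd_mul t hXb hXb)))) hεπ
  obtain ⟨D, hD⟩ : IsUnit (1 + t • ((4 * t ^ (4 * d)) • ε₁)) := by
    rw [Matrix.isUnit_iff_isUnit_det]
    have hmod : Ideal.Quotient.mk (Ideal.span {t}) (1 + t • ((4 * t ^ (4 * d)) • ε₁)).det = 1 := by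
      rw [RingHom.map_det, RingHom.mapMatrix_apply]
      have : (1 + t • ((4 * t ^ (4 * d)) • ε₁)).map (Ideal.Quotient.mk (Ideal.span {t})) = 1 := by
        ext a b
        rw [Matrix.map_apply, Matrix.add_apply, map_add, Matrix.smul_apply, smul_eq_mul, map_mul,
          Ideal.Quotient.eq_zero_iff_mem.2 (Ideal.mem_span_singleton_self _), zero_mul, add_zero,
          ← Matrix.map_apply (f := Ideal.Quotient.mk (Ideal.span {t})), Matrix.map_one _ (map_zero _) (map_one _)]
      rw [this, Matrix.det_one]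
    rw [← map_one (Ideal.Quotient.mk (Ideal.span {t})), Ideal.Quotient.eq, Ideal.mem_span_singleton] at hmod
    obtain ⟨c, hc⟩ := hmod
    rw [show (1 + t • ((4 * t ^ (4 * d)) • ε₁)).det = t * c + 1 by rw [← hc]; ring]
    exact Ideal.mem_jacobson_bot.1 hjac c
  let c₁ : Matrix (Fin n) (Fin n) A := ε₁ * (↑D⁻¹ : Matrix (Fin n) (Fin n) A)
  -- the root
  let B := Algebra.adjoin A ({c₁} : Set (Matrix (Fin n) (Fin n) A))
  letI : CommRing B := Algebra.adjoinCommRingOfComm A (fun a ha b hb => by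
    rw [Set.mem_singleton_iff.1 ha, Set.mem_singleton_iff.1 hb])
  haveI : Algebra.IsIntegral A B := ⟨fun x =>
    (isIntegral_algHom_iff B.val Subtype.val_injective).1 (Algebra.IsIntegral.isIntegral (R := A) (x : Matrix (Fin n) (Fin n) A))⟩
  haveI : HenselianRing B ((J t).map (algebraMap A B)) := HenselLib.henselianRing_map_of_isIntegral
  let cB : B := ⟨c₁, Algebra.subset_adjoin rfl⟩
  let τB : B := algebraMap A B t
  have hτ : τB ∈ (J t).map (algebraMap A B) := Ideal.mem_map_of_mem _ (Ideal.mem_span_singleton_self t)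
  let f : Polynomial B := Polynomial.X ^ 2 - Polynomial.X + Polynomial.C (τB ^ j * cB)
  have hf : f.Monic := by
    show (Polynomial.X ^ 2 - Polynomial.X + Polynomial.C (τB ^ j * cB)).Monic
    monicity!
  obtain ⟨y, hy, hyI⟩ := HenselianRing.is_henselian (I := (J t).map (algebraMap A B)) f hf 0
    (by
      simp only [f, Polynomial.eval_add, Polynomial.eval_sub, Polynomial.eval_pow, Polynomial.eval_X, Polynomial.eval_C]
      rw [zero_pow (by norm_num), sub_zero, zero_add]
      exact Ideal.mul_mem_right _ _ (Ideal.pow_mem_of_mem _ hτ j (by omega)))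
    (by
      simp only [f, Polynomial.derivative_add, Polynomial.derivative_sub, Polynomial.derivative_X_pow,
        Polynomial.derivative_X, Polynomial.derivative_C, Polynomial.eval_add, Polynomial.eval_sub, Polynomial.eval_mul,
        Polynomial.eval_pow, Polynomial.eval_X, Polynomial.eval_C, Polynomial.eval_one, Polynomial.eval_zero]
      simp)
  rw [sub_zero] at hyI
  have hyI' : y ∈ (⊥ : Ideal B).jacobson := HenselianRing.jac hyI
  obtain ⟨v, hv⟩ : IsUnit (1 - y) := by
    have := Ideal.mem_jacobson_bot.1 hyI' (-1)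
    rwa [mul_neg, mul_one, neg_add_eq_sub] at this
  have hyeq : y = τB ^ j * (cB * ↑v⁻¹) := by
    have h0 : y * (1 - y) = τB ^ j * cB := by
      have h1 : y ^ 2 - y + τB ^ j * cB = 0 := by
        simpa [f] using hy
      linear_combination -h1
    rw [← mul_assoc, ← h0, ← hv, mul_assoc, Units.mul_inv, mul_one]
  -- transfer to `A[1/t]`
  let μ : Matrix (Fin n) (Fin n) A →+* Matrix (Fin n) (Fin n) (Localization.Away t) :=
    (algebraMap A (Localization.Away t)).mapMatrix
  let Y := μ y.1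
  have hμs : ∀ (r : A) (M : Matrix (Fin n) (Fin n) A), μ (r • M) = algebraMap A (Localization.Away t) r • μ M :=
    fun r M => Matrix.ext fun a b => by simp [μ]
  have hεμ : ε = μ (t ^ j • ε₁) := hε₁
  have hcomm₁ : Commute P₀ (μ ε₁) := by
    have h1 : Commute P₀ ε := ((Commute.refl P₀).mul_right (Commute.refl P₀)).sub_right (Commute.refl P₀)
    rw [hεμ, hμs] at h1
    have h2 := h1.smul_right ((IsLocalization.Away.algebraMap_isUnit (S := Localization.Away t) t).pow j).unit⁻¹.val
    rwa [map_pow, smul_smul, IsUnit.val_inv_mul, one_smul] at h2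
  have hcommD : Commute P₀ (μ ↑D⁻¹) := by
    have h1 : Commute P₀ (μ ↑D) := by
      rw [hD, map_add, map_one, hμs, hμs]
      exact (Commute.one_right P₀).add_right ((hcomm₁.smul_right _).smul_right _)
    exact Commute.units_inv_right (u := Units.map μ.toMonoidHom D) h1
  have hcB : ∀ x : B, Commute P₀ (μ x.1) := by
    intro x
    refine Algebra.adjoin_induction (p := fun x _ => Commute P₀ (μ x)) ?_ ?_ ?_ ?_ x.2
    · rintro x rfl
      show Commute P₀ (μ (ε₁ * (↑D⁻¹ : Matrix (Fin n) (Fin n) A)))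
      rw [map_mul]
      exact hcomm₁.mul_right hcommD
    · intro r
      rw [show μ (algebraMap A (Matrix (Fin n) (Fin n) A) r) = algebraMap A (Localization.Away t) r • 1 by
        rw [Algebra.algebraMap_eq_smul_one, hμs, map_one]]
      exact (Commute.one_right P₀).smul_right _
    · intro a b _ _ ha hb
      rw [map_add]; exact ha.add_right hb
    · intro a b _ _ ha hb
      rw [map_mul]; exact ha.mul_right hb
  let e := P₀ + (1 - (2 : ℕ) • P₀) * Y
  have hD4 : μ ↑D = 1 + (4 : ℕ) • ε := by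
    rw [hD, map_add, map_one, hεμ, ← map_nsmul, smul_smul, ← Nat.cast_smul_eq_nsmul A, smul_smul]
    congr 3
    show t * (4 * t ^ (4 * d)) = ((4 : ℕ) : A) * t ^ j
    push_cast
    ring
  have hY2 : Y * Y - Y + μ (t ^ j • c₁) = 0 := by
    have h1 : y ^ 2 - y + τB ^ j * cB = 0 := by simpa [f] using hy
    have h2 := congrArg (fun x : B => μ x.1) h1
    simp only [map_add, map_sub, map_zero, Subalgebra.coe_add, Subalgebra.coe_sub, Subalgebra.coe_zero,
      Subalgebra.coe_mul, Subalgebra.coe_pow, map_mul, map_pow, sq] at h2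
    rw [show μ (t ^ j • c₁) = μ ((τB : Matrix (Fin n) (Fin n) A) ^ j * c₁) by
      congr 1
      show t ^ j • c₁ = algebraMap A (Matrix (Fin n) (Fin n) A) t ^ j * c₁
      rw [← map_pow, ← Algebra.smul_def], map_mul, map_pow]
    exact h2
  have hPY : Commute P₀ Y := hcB y
  have he : e * e = e := by
    have hQY : Commute (1 - (2 : ℕ) • P₀) Y := (Commute.one_left Y).sub_left (hPY.smul_left 2)
    have hQP : Commute (1 - (2 : ℕ) • P₀) P₀ := (Commute.one_left P₀).sub_left ((Commute.refl P₀).smul_left 2)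
    have hQ2 : (1 - (2 : ℕ) • P₀) * (1 - (2 : ℕ) • P₀) = μ ↑D := by
      rw [hD4]
      simp only [ε, two_nsmul, succ_nsmul, zero_nsmul, zero_add, Matrix.sub_mul, Matrix.mul_sub, Matrix.add_mul,
        Matrix.mul_add, Matrix.one_mul, Matrix.mul_one]
      abel
    have hεD : μ ↑D * (Y * Y - Y) + ε = 0 := by
      rw [eq_neg_of_add_eq_zero_left hY2, Matrix.mul_neg, neg_add_eq_zero]
      have hDc : Commute (ε₁) (↑D⁻¹ : Matrix (Fin n) (Fin n) A) := by
        refine Commute.units_inv_right ?_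
        rw [hD]
        exact (Commute.one_right _).add_right (((Commute.refl _).smul_right _).smul_right _)
      rw [hεμ, ← map_mul]
      congr 1
      show (↑D : Matrix (Fin n) (Fin n) A) * (t ^ j • (ε₁ * (↑D⁻¹ : Matrix (Fin n) (Fin n) A))) = t ^ j • ε₁
      rw [Matrix.mul_smul, hDc.eq, ← mul_assoc, Units.mul_inv, one_mul]
    have key : e * e - e = ε + (1 - (2 : ℕ) • P₀) * (1 - (2 : ℕ) • P₀) * (Y * Y - Y) := by
      have h1 : P₀ * ((1 - (2 : ℕ) • P₀) * Y) = (1 - (2 : ℕ) • P₀) * (P₀ * Y) := by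
        rw [← mul_assoc, ← hQP.eq, mul_assoc]
      have h2 : (1 - (2 : ℕ) • P₀) * Y * P₀ = (1 - (2 : ℕ) • P₀) * (P₀ * Y) := by rw [mul_assoc, hPY.eq]
      have h3 : (1 - (2 : ℕ) • P₀) * Y * ((1 - (2 : ℕ) • P₀) * Y) =
          (1 - (2 : ℕ) • P₀) * (1 - (2 : ℕ) • P₀) * (Y * Y) := by
        rw [mul_assoc, ← mul_assoc Y, ← hQY.eq, mul_assoc, mul_assoc]
      simp only [e, Matrix.add_mul, Matrix.mul_add, h1, h2, h3]
      simp only [ε, Matrix.mul_sub, Matrix.sub_mul, two_nsmul, Matrix.add_mul, Matrix.mul_add, Matrix.one_mul, Matrix.mul_one,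
        mul_assoc]
      abel
    rw [hQ2, add_comm, hεD, sub_eq_zero] at key
    exact key
  -- conjugation
  let Q : Matrix (Fin n) (Fin n) (Cl t) := P + u' t ^ k • X
  let W : Matrix (Fin n) (Fin n) (Ac t) := ((cB * ↑v⁻¹ : B).1).map (algebraMap A (Ac t))
  let Wc : Matrix (Fin n) (Fin n) (Cl t) := W.map (algebraMap (Ac t) (Cl t))
  have hWb : Bd t 0 Wc := ⟨W, by rw [pow_zero, one_smul]⟩
  let Z : Matrix (Fin n) (Fin n) (Cl t) := -(u' t ^ (2 * d) • X + (1 - (Q + Q)) * Wc)
  have hQb : Bd t d Q := bd_add t hd (bd_smul t k hXb)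
  have hZb : Bd t d Z := hneg (bd_add t (bd_smul t _ hXb)
    (bd_mul t (show Bd t d (1 - (Q + Q)) by rw [sub_eq_add_neg]; exact bd_add t (hone d) (hneg (bd_add t hQb hQb))) hWb))
  have heπ : P = e.map (pi t) + u' t ^ j • Z := by
    have hYπ : Y.map (pi t) = u' t ^ j • Wc := by
      ext a b
      show pi t (algebraMap A (Localization.Away t) (y.1 a b)) = u' t ^ j * _
      rw [pi_algebraMap, hyeq]
      show algebraMap (Ac t) (Cl t) (algebraMap A (Ac t)
        (((algebraMap A (Matrix (Fin n) (Fin n) A) t ^ j) * (cB * ↑v⁻¹ : B).1) a b)) = _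
      rw [← map_pow, ← Algebra.smul_def, Matrix.smul_apply, smul_eq_mul, map_mul, map_mul, map_pow, map_pow]
      rfl
    rw [Matrix.map_add _ (map_add _), Matrix.map_mul, Matrix.map_sub _ (map_sub _), two_nsmul, Matrix.map_add _ (map_add _),
      Matrix.map_one _ (map_zero _) (map_one _), hX, hYπ]
    show P = Q + (1 - (Q + Q)) * (u' t ^ j • Wc) + u' t ^ j • Z
    simp only [Q, Z, Matrix.mul_smul, smul_neg, smul_add, smul_smul, ← pow_add, show j + 2 * d = k from rfl]
    abel
  have heπ2 : e.map (pi t) * e.map (pi t) = e.map (pi t) := by rw [← Matrix.map_mul, he]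
  have heb : Bd t d (e.map (pi t)) := by
    rw [eq_sub_of_add_eq heπ.symm, sub_eq_add_neg]
    exact bd_add t hd (hneg (bd_smul t j hZb))
  refine ⟨e, 1 + u' t ^ j • ((e.map (pi t) + e.map (pi t) - 1) * Z), he,
    isUnit_one_add' t j (show d + d < j by omega) _ (bd_mul t (by rw [sub_eq_add_neg]; exact bd_add t (bd_add t heb heb) (hneg (hone d))) hZb), ?_⟩
  set E := e.map (pi t)
  have hU : 1 + u' t ^ j • ((E + E - 1) * Z) = E * P + (1 - E) * (1 - P) := by
    rw [← Matrix.mul_smul, eq_sub_of_add_eq' heπ.symm]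
    simp only [Matrix.sub_mul, Matrix.mul_sub, Matrix.add_mul, Matrix.one_mul, Matrix.mul_one, heπ2]
    abel
  rw [hU]
  simp only [Matrix.add_mul, Matrix.mul_add, Matrix.sub_mul, Matrix.mul_sub, Matrix.one_mul, Matrix.mul_one, mul_assoc, hP]
  rw [← mul_assoc E E P, heπ2]
  abel

end AwayApproxLib
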